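import Groth.Agent.ArtFunLib.Basic
import Mathlib.RingTheory.Flat.EquationalCriterion

/-!
# Endomorphisms of deformations of modules with scalar endomorphisms
-/

universe u v w w'

open IsLocalRing

namespace Groth.Agent.DefModLib

section

variable {R : Type u} [CommRing R] {F : Type w'} [AddCommGroup F] [Module R F]

theorem exists_sum_of_mem {p : ℕ} (b : Fin p → R) {x : F}
    (hx : x ∈ Ideal.span (Set.range b) • (⊤ : Submodule R F)) : ∃ w : Fin p → F, ∑ l, b l • w l = x := by
  refine Submodule.smul_induction_on hx (fun r hr n _ => ?_) ?_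
  · obtain ⟨c, rfl⟩ := Ideal.mem_span_range_iff_exists_fun.1 hr
    exact ⟨fun l => c l • n, by
      rw [Finset.sum_smul]
      exact Finset.sum_congr rfl fun l _ => by rw [smul_smul, mul_comm]⟩
  · rintro x y ⟨w, rfl⟩ ⟨w', rfl⟩
    exact ⟨w + w', by simp [Finset.sum_add_distrib]⟩

/-- In a flat module over a local ring, `a • y ∈ J F` with `a ∉ J` forces `y ∈ m F`. -/
theorem mem_max_smul_of_smul_mem [IsLocalRing R] [IsNoetherianRing R] [Module.Flat R F] {J : Ideal R}
    {a : R} (ha : a ∉ J) {y : F} (h : a • y ∈ J • (⊤ : Submodule R F)) :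
    y ∈ maximalIdeal R • (⊤ : Submodule R F) := by
  obtain ⟨p, b, hb⟩ := Submodule.fg_iff_exists_fin_generating_family.1 (IsNoetherian.noetherian J)
  have hbJ : ∀ l, b l ∈ J := fun l => hb ▸ Submodule.subset_span ⟨l, rfl⟩
  rw [← hb] at h
  obtain ⟨w, hw⟩ := exists_sum_of_mem b h
  have hrel : ∑ i, Fin.cons (α := fun _ => R) a (fun l => -b l) i • Fin.cons (α := fun _ => F) y w i = 0 := by
    rw [Fin.sum_univ_succ]
    simp [hw]
  obtain ⟨κ, c, z, hx, hc⟩ := Module.Flat.isTrivialRelation_of_sum_smul_eq_zero hrel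
  have h0 := hx 0
  simp only [Fin.cons_zero] at h0
  rw [h0]
  refine Submodule.sum_mem _ fun j _ => Submodule.smul_mem_smul ?_ trivial
  by_contra hu
  rw [IsLocalRing.mem_maximalIdeal, mem_nonunits_iff, not_not] at hu
  have hj := hc j
  rw [Fin.sum_univ_succ] at hj
  simp only [Fin.cons_zero, Fin.cons_succ] at hj
  have : a * c 0 j ∈ J := by
    rw [eq_neg_of_add_eq_zero_left hj]
    exact J.neg_mem (Ideal.sum_mem _ fun l _ => Ideal.mul_mem_right _ _ (J.neg_mem (hbJ l)))
  exact ha ((Ideal.mul_unit_mem_iff_mem J hu).1 this)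

end

variable {K : Type u} [Field K] {D : Type v} [Ring D] [Algebra K D]
variable {E : Type w} [AddCommGroup E] [Module K E] [Module D E]
variable {R : ArtFun.Art K K}
variable {F : Type w'} [AddCommGroup F] [Module R F] [Module D F] [SMulCommClass R D F] [Module.Flat R F]

/-- Every endomorphism of a deformation is a scalar. -/
theorem exists_eq_smul (hE : ∀ ψ : E →ₗ[D] E, ∃ c : K, ∀ y : E, ψ y = c • y)
    (θ : F →ₗ[D] E) (hθ : ∀ (r : R) (x : F), θ (r • x) = R.res r • θ x)
    (hsurj : Function.Surjective θ)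
    (hker : ∀ x : F, θ x = 0 ↔ x ∈ maximalIdeal R • (⊤ : Submodule R F))
    (φ : F →ₗ[R] F) (hφ : ∀ (d : D) (x : F), φ (d • x) = d • φ x) :
    ∃ r : R, ∀ x : F, φ x = r • x := by
  have := SMulCommClass.symm R D F
  suffices ∀ I : Ideal R, ∀ φ : F →ₗ[R] F, (∀ (d : D) (x : F), φ (d • x) = d • φ x) →
      (∀ x, φ x ∈ I • (⊤ : Submodule R F)) → ∃ r : R, ∀ x : F, φ x = r • x from
    this ⊤ φ hφ fun x => by rw [Submodule.top_smul]; trivial
  intro I
  induction I using WellFoundedLT.induction with
  | ind I ih =>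
    intro φ hφ hI
    by_cases hbot : I = ⊥
    · exact ⟨0, fun x => by simpa [hbot] using hI x⟩
    obtain ⟨J, hJI, hJmax⟩ := WellFounded.has_min (r := ((· > ·) : Ideal R → Ideal R → Prop))
      wellFounded_gt {J | J < I} ⟨⊥, bot_lt_iff_ne_bot.2 hbot⟩
    obtain ⟨a, haI, haJ, hma⟩ := ArtFunLib.exists_socle hJI.le hJI.ne
    have hsum : J ⊔ Ideal.span {a} = I := by
      by_contra hne
      exact hJmax _ (lt_of_le_of_ne (sup_le hJI.le ((Ideal.span_singleton_le_iff_mem _).2 haI)) hne)
        (lt_of_le_of_ne le_sup_left fun e => haJ (e ▸ Ideal.mem_sup_right (Ideal.mem_span_singleton_self a)))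
    have hmI : maximalIdeal R * I ≤ J := by
      rw [← hsum, Ideal.mul_sup]
      refine sup_le Ideal.mul_le_right (Ideal.mul_le.2 fun r hr s hs => ?_)
      obtain ⟨t, rfl⟩ := Ideal.mem_span_singleton'.1 hs
      rw [mul_left_comm]
      exact J.mul_mem_left _ (hma r hr)
    have hdec : ∀ x, ∃ y, φ x - a • y ∈ J • (⊤ : Submodule R F) := by
      intro x
      have h := hI x
      rw [← hsum, Submodule.sup_smul] at h
      obtain ⟨u, hu, v, hv, e⟩ := Submodule.mem_sup.1 h
      rw [Submodule.ideal_span_singleton_smul, Submodule.mem_smul_pointwise_iff_exists] at hv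
      obtain ⟨y, -, rfl⟩ := hv
      exact ⟨y, by rw [← e, add_sub_cancel_right]; exact hu⟩
    choose Y hY using hdec
    have hwd : ∀ x y, φ x - a • y ∈ J • (⊤ : Submodule R F) → ∀ x', θ x = θ x' → θ y = θ (Y x') := by
      intro x y hxy x' hxx
      have hm : x - x' ∈ maximalIdeal R • (⊤ : Submodule R F) := (hker _).1 (by rw [map_sub, hxx, sub_self])
      have hφm : φ (x - x') ∈ J • (⊤ : Submodule R F) := by
        refine Submodule.smul_induction_on hm (fun r hr n _ => ?_) fun p q hp hq => by
          rw [map_add]; exact add_mem hp hq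
        rw [map_smul]
        have h1 : r • φ n ∈ maximalIdeal R • (I • (⊤ : Submodule R F)) := Submodule.smul_mem_smul hr (hI n)
        rw [← Submodule.mul_smul] at h1
        exact Submodule.smul_mono_left hmI h1
      rw [← sub_eq_zero, ← map_sub, hker]
      refine mem_max_smul_of_smul_mem haJ ?_
      have : a • (y - Y x') = φ (x - x') - (φ x - a • y) + (φ x' - a • Y x') := by
        rw [smul_sub, map_sub]; abel
      rw [this]
      exact add_mem (sub_mem hφm hxy) (hY x')
    choose s hs using hsurj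
    let g : E →ₗ[D] E :=
      { toFun := fun e => θ (Y (s e))
        map_add' := fun e e' => by
          rw [← map_add θ]
          refine (hwd (s e + s e') (Y (s e) + Y (s e')) ?_ _ (by rw [map_add, hs, hs, hs])).symm
          rw [map_add, smul_add, add_sub_add_comm]
          exact add_mem (hY _) (hY _)
        map_smul' := fun d e => by
          rw [RingHom.id_apply, ← map_smul θ]
          refine (hwd (d • s e) (d • Y (s e)) ?_ _ (by rw [map_smul, hs, hs])).symm
          rw [hφ, smul_comm a d, ← smul_sub]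
          refine Submodule.smul_induction_on (hY (s e)) (fun r hr n _ => ?_) fun p q hp hq => by
            rw [smul_add]; exact add_mem hp hq
          rw [smul_comm]
          exact Submodule.smul_mem_smul hr trivial }
    obtain ⟨c, hc⟩ := hE g
    obtain ⟨c₀, hc₀⟩ := R.res_surjective c
    let φ' : F →ₗ[R] F := φ - (a * c₀) • LinearMap.id
    have hφ'D : ∀ (d : D) (x : F), φ' (d • x) = d • φ' x := fun d x => by
      simp only [φ', LinearMap.sub_apply, LinearMap.smul_apply, LinearMap.id_apply, hφ, smul_sub,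
        smul_comm d (a * c₀) x]
    have hφ'J : ∀ x, φ' x ∈ J • (⊤ : Submodule R F) := by
      intro x
      have h1 : Y x - c₀ • x ∈ maximalIdeal R • (⊤ : Submodule R F) := (hker _).1 (by
        rw [map_sub, hθ, hc₀, sub_eq_zero]
        refine Eq.trans ?_ (hc (θ x))
        exact hwd x (Y x) (hY x) (s (θ x)) (hs _).symm)
      have h2 : a • (Y x - c₀ • x) ∈ J • (⊤ : Submodule R F) := by
        refine Submodule.smul_induction_on h1 (fun r hr n _ => ?_) fun p q hp hq => by
          rw [smul_add]; exact add_mem hp hq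
        rw [smul_smul, mul_comm]
        exact Submodule.smul_mem_smul (hma r hr) trivial
      have : φ' x = (φ x - a • Y x) + a • (Y x - c₀ • x) := by
        simp only [φ', LinearMap.sub_apply, LinearMap.smul_apply, LinearMap.id_apply, smul_sub, smul_smul]
        abel
      rw [this]
      exact add_mem (hY x) h2
    obtain ⟨r, hr⟩ := ih J hJI φ' hφ'D hφ'J
    refine ⟨r + a * c₀, fun x => ?_⟩
    have := hr x
    simp only [φ', LinearMap.sub_apply, LinearMap.smul_apply, LinearMap.id_apply, sub_eq_iff_eq_add] at this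
    rw [this, add_smul]

/-- A deformation of a nonzero module is faithful. -/
theorem eq_of_smul_eq [Nontrivial E] (θ : F →ₗ[D] E) (hsurj : Function.Surjective θ)
    (hker : ∀ x : F, θ x = 0 ↔ x ∈ maximalIdeal R • (⊤ : Submodule R F)) {r r' : R}
    (h : ∀ x : F, r • x = r' • x) : r = r' := by
  by_contra hne
  obtain ⟨e, he⟩ := exists_ne (0 : E)
  obtain ⟨x, rfl⟩ := hsurj e
  refine he ((hker x).2 (mem_max_smul_of_smul_mem (J := ⊥) (a := r - r') ?_ ?_))
  · rw [Ideal.mem_bot, sub_eq_zero]; exact hne
  · rw [sub_smul, h x, sub_self]; exact zero_mem _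

end Groth.Agent.DefModLib
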